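import Groth.Agent.Lib.ProTri8.Basic
import Groth.Agent.Lib.KFlat.Module
import Groth.Agent.Lib.KFlat.Api
import Groth.Agent.Lib.KFlat.Tensor
import Groth.Prelude.Def_DTen
import Groth.Prelude.Def_ega3
import Mathlib.RingTheory.Noetherian.Basic
import Mathlib.Algebra.Category.ModuleCat.Abelian
import Mathlib.Algebra.Homology.DerivedCategory.ShortExact
import Mathlib.CategoryTheory.Abelian.FunctorCategory

/-! `K ⊗^L A/I^n` is pro-isomorphic to `K/I^n K`, by induction on the generators of `I`. -/

set_option autoImplicit false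
set_option linter.unusedSectionVars false
set_option linter.style.haveILetI false
set_option backward.isDefEq.respectTransparency false
set_option backward.isDefEq.respectTransparency.types false
set_option maxHeartbeats 800000

universe w v u

open CategoryTheory CategoryTheory.Limits MonoidalCategory Opposite Pretriangulated

attribute [local instance] HasDerivedCategory.standard

namespace Groth.Agent.DTenPro9

section General

variable {D : Type*} [Category* D]

theorem isProIso_comp {X Y Z : ARSys.PS D} {f : X ⟶ Y} {g : Y ⟶ Z} (hf : DerCA.IsProIso f) (hg : DerCA.IsProIso g) :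
    DerCA.IsProIso (f ≫ g) := fun n => by
  obtain ⟨m, h, b, h1, h2⟩ := hf n
  obtain ⟨l, h', b', h1', h2'⟩ := hg m
  refine ⟨l, h.trans h', b' ≫ b, ?_, ?_⟩
  · rw [NatTrans.comp_app, Category.assoc, reassoc_of% h1', ← Category.assoc, ← ProTri8.tr_nat f h', Category.assoc, h1,
      ProTri8.tr_tr]
  · rw [NatTrans.comp_app, Category.assoc, reassoc_of% h2, ProTri8.tr_nat g h, reassoc_of% h2', ProTri8.tr_tr]

theorem isProIso_of_comp_left {X Y Z : ARSys.PS D} {a : X ⟶ Y} {g : Y ⟶ Z} (ha : DerCA.IsProIso a)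
    (h : DerCA.IsProIso (a ≫ g)) : DerCA.IsProIso g := fun n => by
  obtain ⟨m, hm, b, h1, h2⟩ := h n
  obtain ⟨l, hl, c, -, hc⟩ := ha m
  rw [NatTrans.comp_app] at h1 h2
  refine ⟨l, hm.trans hl, ARSys.tr Z hl ≫ b ≫ a.app (op n), ?_, ?_⟩
  · rw [← Category.assoc, ← ProTri8.tr_nat g hl, ← hc]
    simp only [Category.assoc]
    rw [reassoc_of% h1, ProTri8.tr_nat a hm, reassoc_of% hc,
      ProTri8.tr_tr]
  · simp only [Category.assoc]
    rw [h2, ProTri8.tr_tr]

theorem isProIso_of_isIso {X Y : ARSys.PS D} (f : X ⟶ Y) [∀ n, IsIso (f.app n)] : DerCA.IsProIso f := fun n =>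
  ⟨n, le_rfl, inv (f.app (op n)), by simp [ProTri8.tr_refl], by simp [ProTri8.tr_refl]⟩

variable {C : Type u} [Category.{v} C] [Abelian C] [HasDerivedCategory.{w} C]

/-- The five lemma for pro-isomorphisms of systems of short exact sequences of complexes. -/
theorem isProIso_third {S T : ShortComplex (ARSys.PS (CochainComplex C ℤ))} (φ : S ⟶ T)
    (hS : ∀ k, (S.map ((evaluation _ _).obj k)).ShortExact) (hT : ∀ k, (T.map ((evaluation _ _).obj k)).ShortExact)
    (h₁ : DerCA.IsProIso (Functor.whiskerRight φ.τ₁ DerivedCategory.Q))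
    (h₂ : DerCA.IsProIso (Functor.whiskerRight φ.τ₂ DerivedCategory.Q)) :
    DerCA.IsProIso (Functor.whiskerRight φ.τ₃ DerivedCategory.Q) := by
  let δ : ∀ (U : ShortComplex (ARSys.PS (CochainComplex C ℤ))), (∀ k, (U.map ((evaluation _ _).obj k)).ShortExact) →
      (U.X₃ ⋙ DerivedCategory.Q ⟶ (U.X₁ ⋙ DerivedCategory.Q) ⋙ shiftFunctor (DerivedCategory C) (1 : ℤ)) :=
    fun U hU =>
      { app := fun k => DerivedCategory.triangleOfSESδ (hU k)
        naturality := fun k l g => (DerivedCategory.triangleOfSESδ_naturality (hU k) (hU l)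
          (ShortComplex.Hom.mk (S₁ := U.map ((evaluation _ _).obj k)) (S₂ := U.map ((evaluation _ _).obj l))
            (U.X₁.map g) (U.X₂.map g) (U.X₃.map g) (U.f.naturality g) (U.g.naturality g))).symm }
  have hδ : δ S hS ≫ Functor.whiskerRight (Functor.whiskerRight φ.τ₁ DerivedCategory.Q) _ =
      Functor.whiskerRight φ.τ₃ DerivedCategory.Q ≫ δ T hT := by
    ext k
    exact DerivedCategory.triangleOfSESδ_naturality (hS k) (hT k)
      (((evaluation _ _).obj k).mapShortComplex.map φ)
  refine ProTri8.isProIso_mid (Functor.whiskerRight S.g DerivedCategory.Q ) (δ S hS)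
    (-Functor.whiskerRight (Functor.whiskerRight S.f DerivedCategory.Q) _)
    (Functor.whiskerRight T.g DerivedCategory.Q) (δ T hT)
    (-Functor.whiskerRight (Functor.whiskerRight T.f DerivedCategory.Q) _)
    (fun n => rot_of_distTriang _ (DerivedCategory.triangleOfSES_distinguished (hS (op n))))
    (fun n => rot_of_distTriang _ (DerivedCategory.triangleOfSES_distinguished (hT (op n))))
    (Functor.whiskerRight φ.τ₂ DerivedCategory.Q) _
    (Functor.whiskerRight (Functor.whiskerRight φ.τ₁ DerivedCategory.Q) _) ?_ hδ ?_ h₂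
    (ProTri8.isProIso_map _ h₁)
  · rw [← Functor.whiskerRight_comp, ← Functor.whiskerRight_comp, φ.comm₂₃]
  · rw [Preadditive.neg_comp, Preadditive.comp_neg, ← Functor.whiskerRight_comp, ← Functor.whiskerRight_comp,
      ← Functor.whiskerRight_comp, ← Functor.whiskerRight_comp, φ.comm₁₂]

end General

variable {A : Type u} [CommRing A]

/-- Complexes concentrated in degree `0`. -/
noncomputable abbrev s0 : ModuleCat.{u} A ⥤ DRing.Cx A :=
  HomologicalComplex.single (ModuleCat.{u} A) (ComplexShape.up ℤ) 0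

instance additive_tensorLeft (X : DRing.Cx A) : (tensorLeft X : DRing.Cx A ⥤ DRing.Cx A).Additive :=
  inferInstanceAs ((KFlat.tcx (KFlat.Module.TM A)).obj X).Additive

theorem single_smul_id (r : A) (M : ModuleCat.{u} A) : s0.map (r • 𝟙 M) = r • 𝟙 (s0.obj M) := by
  refine HomologicalComplex.to_single_hom_ext ?_
  simp [HomologicalComplex.single_map_f_self]

theorem splitPres_tensorLeft (X : DRing.Cx A) : KFlat.SplitPres (tensorLeft X : DRing.Cx A ⥤ DRing.Cx A) where
  homotopy h := (KFlat.splitPres_left (T := KFlat.Module.TM A) X).homotopy h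
  shortExact S hS := (KFlat.splitPres_left (T := KFlat.Module.TM A) X).shortExact S hS

theorem preservesColimitsOfShape_tensorLeft (X : DRing.Cx A) (J : Type) [SmallCategory J] :
    PreservesColimitsOfShape J (tensorLeft X : DRing.Cx A ⥤ DRing.Cx A) :=
  KFlat.preservesColimitsOfShape_left (T := KFlat.Module.TM A) X

theorem whiskerLeft_smul_id (X L : DRing.Cx A) (r : A) : X ◁ (r • 𝟙 L) = r • 𝟙 (X ⊗ L) := by
  refine HomologicalComplex.hom_ext _ _ fun n => HomologicalComplex.mapBifunctor.hom_ext fun p q h => ?_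
  change HomologicalComplex.ιMapBifunctor X L (curriedTensor _) (ComplexShape.up ℤ) p q n h ≫
      (HomologicalComplex.mapBifunctorMap (𝟙 X) (r • 𝟙 L) (curriedTensor _) (ComplexShape.up ℤ)).f n = _
  rw [HomologicalComplex.ι_mapBifunctorMap, HomologicalComplex.id_f, CategoryTheory.Functor.map_id, NatTrans.id_app,
    Category.id_comp]
  simp only [Linear.comp_smul, HomologicalComplex.smul_f_apply, HomologicalComplex.id_f]
  simp
  exact congrArg (r • ·) (Category.comp_id _).symm

/-- The twist of a system by powers of `f`. -/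
noncomputable def twist (f : A) (B : ARSys.PS (ModuleCat.{u} A)) : ARSys.PS (ModuleCat.{u} A) where
  obj k := B.obj k
  map {k l} g := B.map g ≫ ((f ^ (k.unop - l.unop)) • 𝟙 (B.obj l))
  map_id k := by simp
  map_comp {k l m} g g' := by
    have h1 : l.unop ≤ k.unop := leOfHom g.unop
    have h2 : m.unop ≤ l.unop := leOfHom g'.unop
    simp only [Functor.map_comp, Linear.comp_smul, Linear.smul_comp, Category.comp_id, smul_smul, ← pow_add]
    rw [show l.unop - m.unop + (k.unop - l.unop) = k.unop - m.unop by omega]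

/-- Multiplication by `f^(n+1)`. -/
noncomputable def twistα (f : A) (B : ARSys.PS (ModuleCat.{u} A)) : twist f B ⟶ B where
  app k := (f ^ (k.unop + 1)) • 𝟙 (B.obj k)
  naturality k l g := by
    have h1 : l.unop ≤ k.unop := leOfHom g.unop
    simp only [twist, Linear.comp_smul, Linear.smul_comp, Category.comp_id, Category.id_comp, smul_smul, ← pow_add]
    rw [show l.unop + 1 + (k.unop - l.unop) = k.unop + 1 by omega]

section Twist

variable {D : Type*} [Category* D] {F G : ModuleCat.{u} A ⥤ D}

theorem isProIso_twist (f : A) (B : ARSys.PS (ModuleCat.{u} A)) (τ : F ⟶ G)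
    (h : DerCA.IsProIso (Functor.whiskerLeft B τ)) : DerCA.IsProIso (Functor.whiskerLeft (twist f B) τ) := fun n => by
  obtain ⟨m, hm, b, h1, h2⟩ := h n
  let μ : B.obj (op n) ⟶ B.obj (op n) := (f ^ (m - n)) • 𝟙 (B.obj (op n))
  have ht : ∀ H : ModuleCat.{u} A ⥤ D,
      ARSys.tr (twist f B ⋙ H) hm = ARSys.tr (B ⋙ H) hm ≫ H.map μ := fun H => H.map_comp _ _
  refine ⟨m, hm, b ≫ F.map μ, ?_, ?_⟩
  · rw [ht F, ← h1]
    exact (Category.assoc _ _ _).symm
  · rw [ht G, ← h2]
    exact (Category.assoc _ _ _).trans ((congrArg (b ≫ ·) (τ.naturality μ)).trans (Category.assoc _ _ _).symm)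

end Twist

/-- The cone of the identity, functorially. -/
noncomputable def coneId : DRing.Cx A ⥤ DRing.Cx A where
  obj L := CochainComplex.mappingCone (𝟙 L)
  map {L L'} g := CochainComplex.mappingCone.map (𝟙 L) (𝟙 L') g g (by simp)
  map_id L := CochainComplex.mappingCone.map_id _
  map_comp g g' := CochainComplex.mappingCone.map_comp ..

/-- The embedding into the cone of the identity, naturally. -/
noncomputable def coneInr : 𝟭 (DRing.Cx A) ⟶ coneId where
  app L := CochainComplex.mappingCone.inr (𝟙 L)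
  naturality L L' g := by simp [coneId, CochainComplex.mappingCone.map]

section Step

variable (f : A) (B : ARSys.PS (ModuleCat.{u} A))

/-- The middle of the cylinder. -/
noncomputable abbrev cylY : ARSys.PS (DRing.Cx A) := (B ⋙ s0) ⊞ (twist f B ⋙ s0 ⋙ coneId)

/-- The cylinder embedding. -/
noncomputable abbrev cylι : twist f B ⋙ s0 ⟶ cylY f B :=
  biprod.lift (Functor.whiskerRight (twistα f B) s0) (Functor.whiskerLeft (twist f B ⋙ s0) coneInr)

/-- The cylinder. -/
noncomputable abbrev cyl : ShortComplex (ARSys.PS (DRing.Cx A)) :=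
  ShortComplex.mk (cylι f B) (cokernel.π (cylι f B)) (cokernel.condition _)

theorem shortExact_cyl (k : ℕᵒᵖ) :
    ((cyl f B).map ((evaluation _ _).obj k)).ShortExact ∧
      ∀ i : ℤ, Nonempty ((((cyl f B).map ((evaluation _ _).obj k)).map
        (HomologicalComplex.eval (ModuleCat.{u} A) (ComplexShape.up ℤ) i)).Splitting) := by
  let r : ∀ i : ℤ, ((cylY f B).obj k).X i ⟶ ((twist f B ⋙ s0).obj k).X i := fun i =>
    ((biprod.snd : cylY f B ⟶ _).app k).f i ≫ (CochainComplex.mappingCone.snd (𝟙 _)).v i i (add_zero i)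
  have hr : ∀ i, ((cylι f B).app k).f i ≫ r i = 𝟙 _ := fun i => by
    simp only [r]
    rw [← Category.assoc, ← HomologicalComplex.comp_f, ← NatTrans.comp_app, biprod.lift_snd]
    simp [coneInr]
  haveI : ∀ i, Mono (((cylι f B).app k).f i) := fun i => (SplitMono.mk (r i) (hr i)).mono
  haveI : Mono ((cylι f B).app k) := HomologicalComplex.mono_of_mono_f _ inferInstance
  have hex : (cyl f B).Exact := ShortComplex.exact_cokernel _
  have h : ((cyl f B).map ((evaluation _ _).obj k)).ShortExact :=
    ShortComplex.ShortExact.mk' (hex.map _) ‹_› (inferInstanceAs (Epi ((cokernel.π (cylι f B)).app k)))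
  refine ⟨h, fun i => ?_⟩
  have h' := h.map_of_exact (HomologicalComplex.eval (ModuleCat.{u} A) (ComplexShape.up ℤ) i)
  exact ⟨ShortComplex.Splitting.ofExactOfRetraction _ h'.exact (r i) (hr i) h'.epi_g⟩

/-- The quotient by `f`. -/
noncomputable abbrev quotSys : ARSys.PS (ModuleCat.{u} A) := cokernel (twistα f B)

/-- The map of the cylinder's cokernel to the quotient. -/
noncomputable def cylToQuot : (cyl f B).X₃ ⟶ quotSys f B ⋙ s0 :=
  cokernel.desc _ (biprod.fst ≫ Functor.whiskerRight (cokernel.π (twistα f B)) s0) (by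
    rw [← Category.assoc, biprod.lift_fst, ← Functor.whiskerRight_comp, cokernel.condition]
    ext k : 2
    exact s0.map_zero _ _)

/-- Eventual annihilation of torsion. -/
def TorsStab (L : DRing.Cx A) : Prop :=
  ∃ c : ℕ, ∀ (W : DRing.Cx A) (k : W ⟶ L) (N : ℕ), (f ^ N) • k = 0 → (f ^ c) • k = 0

theorem step_aux {K P : DRing.Cx A} (q : P ⟶ K) (hτ : DerCA.IsProIso (Functor.whiskerLeft B
      (Functor.whiskerLeft s0 (Functor.whiskerRight ((tensoringLeft (DRing.Cx A)).map q) DerivedCategory.Q))))
    (hstab : ∀ n, TorsStab f (K ⊗ s0.obj (B.obj (op n)))) :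
    DerCA.IsProIso (Functor.whiskerRight (Functor.whiskerRight (cylToQuot f B) (tensorLeft P) ≫
      Functor.whiskerLeft (quotSys f B ⋙ s0) ((tensoringLeft (DRing.Cx A)).map q)) DerivedCategory.Q) := by
  let τ : tensorLeft P ⟶ (tensorLeft K : DRing.Cx A ⥤ DRing.Cx A) := (tensoringLeft (DRing.Cx A)).map q
  haveI : ∀ X : DRing.Cx A, PreservesFiniteColimits (tensorLeft X : DRing.Cx A ⥤ DRing.Cx A) := fun X =>
    ⟨fun J _ _ => preservesColimitsOfShape_tensorLeft X J⟩
  haveI : ∀ X : DRing.Cx A, (tensorLeft X : DRing.Cx A ⥤ DRing.Cx A).Additive := fun X => inferInstance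
  let H := s0 (A := A) ⋙ tensorLeft K
  haveI : PreservesFiniteColimits H := inferInstance
  haveI : PreservesFiniteColimits ((Functor.whiskeringRight ℕᵒᵖ _ _).obj H) := ⟨fun J _ _ => inferInstance⟩
  let u : twist f B ⋙ H ⟶ B ⋙ H := Functor.whiskerRight (twistα f B) H
  let w : B ⋙ H ⟶ quotSys f B ⋙ H := Functor.whiskerRight (cokernel.π (twistα f B)) H
  have huw : u ≫ w = 0 := by
    simp only [u, w, ← Functor.whiskerRight_comp, cokernel.condition]
    ext k : 2
    exact H.map_zero _ _
  have hex : (ShortComplex.mk u w huw).Exact ∧ Epi w :=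
    (ShortComplex.exact_and_epi_g_iff_g_is_cokernel _).2
      ⟨CokernelCofork.mapIsColimit _ (cokernelIsCokernel (twistα f B)) ((Functor.whiskeringRight ℕᵒᵖ _ _).obj H)⟩
  haveI := hex.2
  let p : twist f B ⋙ H ⟶ kernel w := kernel.lift w u huw
  haveI : Epi p := hex.1.epi_kernelLift
  -- the torsion is eventually killed
  have hp : DerCA.IsProIso p := fun n => by
    obtain ⟨c, hc⟩ := hstab n
    let m := n + c
    let t := ARSys.tr (twist f B ⋙ H) (show n ≤ m by omega)
    have ht : kernel.ι (p.app (op m)) ≫ t = 0 := by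
      let k := kernel.ι (p.app (op m))
      have h1 : k ≫ u.app (op m) = 0 := by
        rw [show u = p ≫ kernel.ι w from (kernel.lift_ι _ _ _).symm, NatTrans.comp_app, kernel.condition_assoc,
          zero_comp]
      have hsm : ∀ (r : A) (M : ModuleCat.{u} A), H.map (r • 𝟙 M) = r • 𝟙 (H.obj M) := fun r M => by
        change K ◁ s0.map (r • 𝟙 M) = _
        rw [single_smul_id, whiskerLeft_smul_id]
        rfl
      let t₀ := ARSys.tr (B ⋙ H) (show n ≤ m by omega)
      have h2 : t = t₀ ≫ ((f ^ c) • 𝟙 _) := by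
        change H.map (B.map _ ≫ _) = _
        rw [Functor.map_comp, hsm, show m - n = c by omega]
        rfl
      have h3 : (f ^ (m + 1)) • k = 0 := by
        have h1' : k ≫ ((f ^ (m + 1)) • 𝟙 _) = 0 := (congrArg (k ≫ ·) (hsm _ _)).symm.trans h1
        exact ((Linear.comp_smul _ _ _ _ _ _).trans (congrArg (_ • ·) (Category.comp_id k))).symm.trans h1'

      have h4 : (f ^ c) • (k ≫ t₀) = 0 := hc _ (k ≫ t₀) (m + 1) (by
        rw [← Linear.smul_comp, h3, zero_comp])
      rw [h2, Linear.comp_smul, Category.comp_id, Linear.comp_smul]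
      exact h4
    haveI : Epi (p.app (op m)) := inferInstance
    let b := Abelian.epiDesc (p.app (op m)) t ht
    have hb : p.app (op m) ≫ b = t := Abelian.comp_epiDesc _ _ _
    refine ⟨m, by omega, b, hb, ?_⟩
    rw [← cancel_epi (p.app (op m)), ← Category.assoc, hb]
    exact ProTri8.tr_nat p _
  -- the source sequence
  let S : ShortComplex (ARSys.PS (DRing.Cx A)) := (cyl f B).map ((Functor.whiskeringRight ℕᵒᵖ _ _).obj (tensorLeft P))
  have hS : ∀ k, (S.map ((evaluation _ _).obj k)).ShortExact := fun k =>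
    (splitPres_tensorLeft P).shortExact ((cyl f B).map ((evaluation _ _).obj k)) (shortExact_cyl f B k).2
  let T : ShortComplex (ARSys.PS (DRing.Cx A)) := ShortComplex.mk (kernel.ι w) w (kernel.condition w)
  have hT : ∀ k, (T.map ((evaluation _ _).obj k)).ShortExact := fun k =>
    (ShortComplex.ShortExact.mk' (ShortComplex.exact_kernel w) inferInstance ‹_›).map_of_exact _
  let φ₁ : S.X₁ ⟶ T.X₁ := Functor.whiskerLeft (twist f B ⋙ s0) τ ≫ p
  let φ₂ : S.X₂ ⟶ T.X₂ := Functor.whiskerRight (biprod.fst : cylY f B ⟶ B ⋙ s0) (tensorLeft P) ≫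
    Functor.whiskerLeft (B ⋙ s0) τ
  let φ₃ : S.X₃ ⟶ T.X₃ := Functor.whiskerRight (cylToQuot f B) (tensorLeft P) ≫
    Functor.whiskerLeft (quotSys f B ⋙ s0) τ
  let φ : S ⟶ T := ShortComplex.Hom.mk φ₁ φ₂ φ₃
    (by
      simp only [S, T, φ₁, φ₂, Category.assoc, p, kernel.lift_ι, ShortComplex.map_f, Functor.whiskeringRight_obj_map]
      ext k : 2
      simp only [NatTrans.comp_app, Functor.whiskerLeft_app, Functor.whiskerRight_app, u]
      rw [← Category.assoc, ← Functor.map_comp, ← NatTrans.comp_app, biprod.lift_fst]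
      exact (τ.naturality _).symm)
    (by
      simp only [S, T, φ₂, φ₃, Category.assoc, ShortComplex.map_g, Functor.whiskeringRight_obj_map]
      ext k : 2
      simp only [NatTrans.comp_app, Functor.whiskerLeft_app, Functor.whiskerRight_app, w, cylToQuot]
      rw [← Category.assoc ((tensorLeft P).map _) ((tensorLeft P).map _), ← Functor.map_comp, ← NatTrans.comp_app,
        cokernel.π_desc, NatTrans.comp_app, Functor.map_comp, Category.assoc]
      exact congrArg (_ ≫ ·) (τ.naturality _).symm)
  refine isProIso_third φ hS hT ?_ ?_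
  · rw [Functor.whiskerRight_comp]
    exact isProIso_comp (isProIso_twist f B _ hτ) (ProTri8.isProIso_map _ hp)
  · rw [Functor.whiskerRight_comp]
    refine isProIso_comp ?_ hτ
    haveI : ∀ k, IsIso ((Functor.whiskerRight (Functor.whiskerRight (biprod.fst : cylY f B ⟶ B ⋙ s0) (tensorLeft P))
        DerivedCategory.Q).app k) := fun k => by
      change IsIso (DerivedCategory.Q.map ((tensorLeft P).map ((biprod.fst : cylY f B ⟶ B ⋙ s0).app k)))
      rw [DerivedCategory.isIso_Q_map_iff_quasiIso]
      let e := (evaluation ℕᵒᵖ (DRing.Cx A)).obj k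
      haveI := preservesBinaryBiproducts_of_preservesBiproducts e
      rw [show (biprod.fst : cylY f B ⟶ B ⋙ s0).app k =
          (e.mapBiprod (B ⋙ s0) (twist f B ⋙ s0 ⋙ coneId)).hom ≫ biprod.fst from (biprod.lift_fst _ _).symm,
        Functor.map_comp]
      have h' := (splitPres_tensorLeft P).quasiIso_map_homotopyEquiv (KFlat.fstHomotopyEquiv
        (X := (B ⋙ s0).obj k) (CochainComplex.mappingCone.homotopyToZeroOfId ((twist f B ⋙ s0).obj k)))
      exact (quasiIso_iff_comp_left _ _).2 h' 
    exact isProIso_of_isIso _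

end Step

end Groth.Agent.DTenPro9
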