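import Groth.Agent.Lib.DTenPro9.Main
import Groth.Agent.Lib.RHom.HomExact

/-! `I^n M ⟶ M` factors through `I ⊗^L M ⟶ M`. -/

set_option autoImplicit false
set_option linter.unusedSectionVars false
set_option linter.style.haveILetI false
set_option backward.isDefEq.respectTransparency false
set_option backward.isDefEq.respectTransparency.types false
set_option maxHeartbeats 800000

universe u

open CategoryTheory CategoryTheory.Limits MonoidalCategory Opposite Pretriangulated

attribute [local instance] HasDerivedCategory.standard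

namespace Groth.Agent.DTenPro9

variable {A : Type u} [CommRing A]

instance additive_tensorRight (X : DRing.Cx A) : (tensorRight X : DRing.Cx A ⥤ DRing.Cx A).Additive :=
  inferInstanceAs ((KFlat.tcx (KFlat.Module.TM A)).flip.obj X).Additive

theorem splitPres_tensorRight (X : DRing.Cx A) : KFlat.SplitPres (tensorRight X : DRing.Cx A ⥤ DRing.Cx A) where
  homotopy h := (KFlat.splitPres_right (T := KFlat.Module.TM A) X).homotopy h
  shortExact S hS := (KFlat.splitPres_right (T := KFlat.Module.TM A) X).shortExact S hS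

theorem subtype_comp_eq_zero {M N : ModuleCat.{u} A} (J : Ideal A) (g : M ⟶ N) (h : ∀ r ∈ J, r • g = 0) :
    ModuleCat.ofHom (J • (⊤ : Submodule A M)).subtype ≫ g = 0 := by
  ext x
  change g x.1 = 0
  refine Submodule.smul_induction_on (p := fun y => g y = 0) x.2 (fun r hr y _ => ?_) fun y z hy hz => ?_
  · rw [map_smul]
    exact congrArg (fun t : M ⟶ N => t y) (h r hr)
  · rw [map_add, hy, hz, add_zero]

theorem single_comp_eq_zero {M : ModuleCat.{u} A} {L : DRing.Cx A} (J : Ideal A) (e : s0.obj M ⟶ L)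
    (h : ∀ r ∈ J, r • e = 0) :
    s0.map (ModuleCat.ofHom (J • (⊤ : Submodule A M)).subtype) ≫ e = 0 := by
  refine HomologicalComplex.from_single_hom_ext ?_
  have h0 := subtype_comp_eq_zero J ((HomologicalComplex.singleObjXSelf (ComplexShape.up ℤ) 0 M).inv ≫ e.f 0)
    fun r hr => by
      rw [← Linear.comp_smul, ← HomologicalComplex.smul_f_apply, h r hr, HomologicalComplex.zero_f, comp_zero]
  rw [HomologicalComplex.comp_f, HomologicalComplex.single_map_f_self, HomologicalComplex.zero_f, Category.assoc,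
    Category.assoc, h0, comp_zero]

/-- The comparison of the two unit isomorphisms. -/
noncomputable def unitSwap (X : DRing.Cx A) : X ⟶ X :=
  (λ_ X).inv ≫ (DTen.braidCx (𝟙_ (DRing.Cx A)) X).hom ≫ (ρ_ X).hom

theorem unitSwap_natural {X Y : DRing.Cx A} (f : X ⟶ Y) : f ≫ unitSwap Y = unitSwap X ≫ f := by
  have h := DTen.braidCx_naturality (𝟙 (𝟙_ (DRing.Cx A))) f
  rw [id_tensorHom, tensorHom_id] at h
  rw [unitSwap, unitSwap, ← Category.assoc, leftUnitor_inv_naturality, Category.assoc, reassoc_of% h,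
    rightUnitor_naturality]
  simp only [Category.assoc]

theorem braid_unit_comp {Q X : DRing.Cx A} (π : 𝟙_ (DRing.Cx A) ⟶ Q) :
    (λ_ X).inv ≫ π ▷ X ≫ (DTen.braidCx Q X).hom = unitSwap X ≫ (ρ_ X).inv ≫ X ◁ π := by
  have h := DTen.braidCx_naturality π (𝟙 X)
  rw [id_tensorHom, tensorHom_id] at h
  rw [h, unitSwap]
  simp only [Category.assoc, Iso.hom_inv_id_assoc]

variable [IsNoetherianRing A] [DTen.HasLTen A] [DTen.KFlatComputes A]

theorem exists_factor (I : Ideal A) (M : ModuleCat.{u} A) [Module.Finite A M] :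
    ∃ (n : ℕ) (_ : 0 < n)
      (g : DerivedCategory.Q.obj (s0.obj (ModuleCat.of A ↥(I ^ n • (⊤ : Submodule A M)))) ⟶
        (DTen.LTen₂ A).obj (DerivedCategory.Q.obj (s0.obj (ModuleCat.of A ↥I)), DerivedCategory.Q.obj (s0.obj M))),
      g ≫ (DTen.LTen₂ A).map (Prod.mkHom (DerivedCategory.Q.map (s0.map (ModuleCat.ofHom I.subtype))) (𝟙 _)) ≫
          (DTen.unitL A).app (DerivedCategory.Q.obj (s0.obj M)) =
        DerivedCategory.Q.map (s0.map (ModuleCat.ofHom (I ^ n • (⊤ : Submodule A M)).subtype)) := by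
  let K := s0.obj M
  have hK : DRing.VanishesOutside K 0 0 := fun i hi =>
    HomologicalComplex.isZero_single_obj_X (ComplexShape.up ℤ) 0 _ i (by omega)
  have hKf : ∀ i, Module.Finite A (K.X i) := fun i => by
    by_cases hi : i = 0
    · subst hi
      exact Module.Finite.equiv
        (HomologicalComplex.singleObjXSelf (ComplexShape.up ℤ) 0 M).toLinearEquiv.symm
    · haveI : Subsingleton (K.X i) := ModuleCat.subsingleton_of_isZero (hK i (by omega))
      infer_instance
  let P := (KFlat.DT.res A).obj K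
  let q : P ⟶ K := (KFlat.DT.aug A).app K
  haveI : QuasiIso q := KFlat.DT.qis_aug K
  haveI : IsIso (DerivedCategory.Q.map q) := inferInstance
  have hP : DRing.IsKFlat A P := KFlat.DT.isKFlat_res K
  obtain ⟨m, hm, b, h1, -⟩ := isProIso_qτ I K 0 0 hK hKf q hP 0
  let X := s0.obj (ModuleCat.of A ↥(I ^ (m + 1) • (⊤ : Submodule A M)))
  let j : X ⟶ K := s0.map (ModuleCat.ofHom (I ^ (m + 1) • (⊤ : Submodule A M)).subtype)
  let π : ∀ k, 𝟙_ (DRing.Cx A) ⟶ s0.obj ((sys I).obj (op k)) := fun k => s0.map ((proj I).app (op k))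
  -- the classes killed at level `m`
  let e : K ⟶ K ⊗ s0.obj ((sys I).obj (op m)) := (ρ_ K).inv ≫ K ◁ π m
  have hje : j ≫ e = 0 := single_comp_eq_zero _ e fun r hr => by
    have hr' : r • (proj I).app (op m) = 0 := by
      ext
      change r • (lvl I m).mkQ (1 : A) = 0
      rw [← map_smul, Submodule.mkQ_apply, Submodule.Quotient.mk_eq_zero, smul_eq_mul, mul_one]
      exact lvl_le_iff.2 hr
    have h' : r • (K ◁ π m) = 0 := by
      calc r • (K ◁ π m) = K ◁ (r • 𝟙 _) ≫ K ◁ π m := by
            rw [whiskerLeft_smul_id, Linear.smul_comp, Category.id_comp]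
        _ = K ◁ s0.map (r • (proj I).app (op m)) := by
            rw [← MonoidalCategory.whiskerLeft_comp]
            refine congrArg (K ◁ ·) ?_
            exact (congrArg (· ≫ π m) (single_smul_id r (ModuleCat.of A A)).symm).trans ((s0.map_comp _ _).symm.trans
              (congrArg s0.map ((Linear.smul_comp _ _ _ _ _ _).trans (congrArg (r • ·) (Category.id_comp _)))))
        _ = 0 := by
            rw [hr', Functor.map_zero]
            exact (tensorLeft K : DRing.Cx A ⥤ DRing.Cx A).map_zero _ _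
    rw [← Linear.comp_smul, h', comp_zero]
  -- pass to `P` and level `0`
  have hu₀ : DerivedCategory.Q.map j ≫ inv (DerivedCategory.Q.map q) ≫
      DerivedCategory.Q.map ((ρ_ P).inv ≫ P ◁ π 0) = 0 := by
    have hP0 : (ρ_ P).inv ≫ P ◁ π 0 = (ρ_ P).inv ≫ P ◁ π m ≫ P ◁ s0.map (ARSys.tr (sys I) hm) := by
      rw [← MonoidalCategory.whiskerLeft_comp, ← Functor.map_comp, proj_tr]
    have h1' : DerivedCategory.Q.map (P ◁ s0.map (ARSys.tr (sys I) hm)) =
        DerivedCategory.Q.map (q ▷ s0.obj ((sys I).obj (op m))) ≫ b := h1.symm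
    have hq : (ρ_ P).inv ≫ P ◁ π m ≫ q ▷ _ = q ≫ e := by
      rw [MonoidalCategory.whisker_exchange, ← rightUnitor_inv_naturality_assoc]
    rw [hP0, Functor.map_comp, Functor.map_comp, h1', ← Functor.map_comp_assoc, ← Functor.map_comp_assoc,
      Category.assoc, hq, Functor.map_comp, Category.assoc, IsIso.inv_hom_id_assoc,
      ← Functor.map_comp_assoc, hje, Functor.map_zero, zero_comp]
  -- change sides
  have hu : DerivedCategory.Q.map j ≫ inv (DerivedCategory.Q.map q) ≫
      DerivedCategory.Q.map ((λ_ P).inv ≫ π 0 ▷ P) = 0 := by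
    rw [← cancel_mono (DerivedCategory.Q.map (DTen.braidCx (s0.obj ((sys I).obj (op 0))) P).hom), zero_comp]
    simp only [Category.assoc, ← Functor.map_comp, braid_unit_comp]
    have hc : inv (DerivedCategory.Q.map q) ≫ DerivedCategory.Q.map (unitSwap P) =
        DerivedCategory.Q.map (unitSwap K) ≫ inv (DerivedCategory.Q.map q) := by
      rw [IsIso.inv_comp_eq, ← Category.assoc, IsIso.eq_comp_inv, ← Functor.map_comp, ← Functor.map_comp,
        unitSwap_natural]
    rw [Functor.map_comp, reassoc_of% hc, ← Functor.map_comp_assoc, unitSwap_natural, Functor.map_comp,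
      Category.assoc, hu₀, comp_zero]
  -- the exact functor `- ⊗^L P`
  let F := (DTen.LTen A).flip.obj (DerivedCategory.Q.obj P)
  haveI hη : ∀ L, IsIso ((DTen.εRight A P).app L) := fun L => DTen.KFlatComputes.isIso_counit L P (Or.inr hP)
  have hF : RHom.HomExact F :=
    RHom.homExact_of_adapted F (splitPres_tensorRight P) (fun _ => True)
      (fun L => ⟨L, 𝟙 L, trivial, inferInstance⟩) (fun _ _ _ => ⟨trivial, trivial⟩)
      (DTen.εRight A P) fun L _ => hη L
  let ι : ModuleCat.of A ↥I ⟶ ModuleCat.of A A := ModuleCat.ofHom I.subtype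
  have hw : ι ≫ (proj I).app (op 0) = 0 := by
    ext x
    change (lvl I 0).mkQ (x.1 : A) = 0
    rw [Submodule.mkQ_apply, Submodule.Quotient.mk_eq_zero]
    exact lvl_le_iff.2 ((pow_one I).symm ▸ x.2)
  have hS : (ShortComplex.mk ι ((proj I).app (op 0)) hw).ShortExact := by
    refine ShortComplex.ShortExact.mk' ((ShortComplex.moduleCat_exact_iff _).2 fun x hx => ?_)
      ((ModuleCat.mono_iff_injective _).2 Subtype.val_injective) (epi_proj I _)
    have hx' := lvl_le_iff.1 ((Submodule.Quotient.mk_eq_zero (lvl I 0)).1 hx)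
    exact ⟨⟨x, by simpa using hx'⟩, rfl⟩
  have hS' := hS.map_of_exact (s0 (A := A))
  let T := DerivedCategory.triangleOfSES hS'
  have hT : T ∈ distTriang _ := DerivedCategory.triangleOfSES_distinguished hS'
  haveI : IsIso ((DTen.unitL A).app (DerivedCategory.Q.obj P)) := by
    haveI : IsIso ((DTen.ε A).app (𝟙_ (DRing.Cx A), P)) := DTen.KFlatComputes.isIso_counit _ _ (Or.inr hP)
    rw [DTen.unitL_app]
    infer_instance
  let u' : DerivedCategory.Q.obj X ⟶ F.obj T.obj₂ :=
    DerivedCategory.Q.map j ≫ inv (DerivedCategory.Q.map q) ≫ inv ((DTen.unitL A).app (DerivedCategory.Q.obj P))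
  have hu' : u' ≫ F.map T.mor₂ = 0 := by
    haveI := hη (s0.obj ((sys I).obj (op 0)))
    have hn : F.map T.mor₂ ≫ (DTen.εRight A P).app (s0.obj ((sys I).obj (op 0))) =
        (DTen.ε A).app (𝟙_ (DRing.Cx A), P) ≫ DerivedCategory.Q.map (π 0 ▷ P) :=
      (DTen.εRight A P).naturality (π 0)
    have hl : inv ((DTen.unitL A).app (DerivedCategory.Q.obj P)) ≫ (DTen.ε A).app (𝟙_ (DRing.Cx A), P) =
        DerivedCategory.Q.map (λ_ P).inv := by
      rw [IsIso.inv_comp_eq, DTen.unitL_app, Category.assoc, ← Functor.map_comp, Iso.hom_inv_id,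
        CategoryTheory.Functor.map_id]
      exact (Category.comp_id _).symm
    rw [← cancel_mono ((DTen.εRight A P).app (s0.obj ((sys I).obj (op 0)))), zero_comp]
    simp only [u', Category.assoc]
    rw [hn, reassoc_of% hl, ← Functor.map_comp]
    exact hu
  obtain ⟨Z, z, δ, hZ⟩ := distinguished_cocone_triangle (F.map T.mor₁)
  have hz : F.map T.mor₁ ≫ z = 0 := comp_distTriang_mor_zero₁₂ _ hZ
  obtain ⟨χ, hχ⟩ := hF T hT z hz
  obtain ⟨g', hg'⟩ := Triangle.coyoneda_exact₂ _ hZ u' (by
    change u' ≫ z = 0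
    rw [hχ, reassoc_of% hu', zero_comp])
  refine ⟨m + 1, Nat.succ_pos m, g' ≫ (DTen.LTen₂ A).map
    (Prod.mkHom (𝟙 (DerivedCategory.Q.obj (s0.obj (ModuleCat.of A ↥I)))) (DerivedCategory.Q.map q)), ?_⟩
  have hn : (DTen.LTen₂ A).map (Prod.mkHom (𝟙 (DerivedCategory.Q.obj (s0.obj (ModuleCat.of A ↥I))))
        (DerivedCategory.Q.map q)) ≫
      (DTen.LTen₂ A).map (Prod.mkHom (DerivedCategory.Q.map (s0.map ι)) (𝟙 (DerivedCategory.Q.obj K))) =
      (DTen.LTen₂ A).map (Prod.mkHom (DerivedCategory.Q.map (s0.map ι)) (𝟙 (DerivedCategory.Q.obj P))) ≫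
        (DTen.LTen₂ A).map (Prod.mkHom (𝟙 (DTen.unit A)) (DerivedCategory.Q.map q)) := by
    rw [← Functor.map_comp, ← Functor.map_comp]
    refine congrArg (DTen.LTen₂ A).map (Prod.ext ?_ ?_)
    · exact (Category.id_comp _).trans (Category.comp_id _).symm
    · exact (Category.comp_id _).trans (Category.id_comp _).symm
  have hnat : (DTen.LTen₂ A).map (Prod.mkHom (𝟙 (DTen.unit A)) (DerivedCategory.Q.map q)) ≫
      (DTen.unitL A).app (DerivedCategory.Q.obj K) =
      (DTen.unitL A).app (DerivedCategory.Q.obj P) ≫ DerivedCategory.Q.map q :=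
    (DTen.unitL A).naturality (DerivedCategory.Q.map q)
  rw [Category.assoc, reassoc_of% hn, hnat]
  have hg : g' ≫ (DTen.LTen₂ A).map (Prod.mkHom (DerivedCategory.Q.map (s0.map ι))
      (𝟙 (DerivedCategory.Q.obj P))) = u' := hg'.symm
  rw [reassoc_of% hg]
  simp only [u', Category.assoc, IsIso.inv_hom_id_assoc, IsIso.inv_hom_id, Category.comp_id]
  rfl

end Groth.Agent.DTenPro9
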