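import Groth.Agent.Lib.DTenPro9.Basic
import Groth.Agent.Lib.KFlat.DTen
import Mathlib.RingTheory.Ideal.Operations
import Mathlib.Data.Int.Interval

/-! The derived tensor product with `A/I^n` is pro-isomorphic to the plain one. -/

set_option autoImplicit false
set_option linter.unusedSectionVars false
set_option linter.style.haveILetI false
set_option backward.isDefEq.respectTransparency false
set_option backward.isDefEq.respectTransparency.types false
set_option maxHeartbeats 800000

universe u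

open CategoryTheory CategoryTheory.Limits MonoidalCategory Opposite

attribute [local instance] HasDerivedCategory.standard

namespace Groth.Agent.DTenPro9

variable {A : Type u} [CommRing A]

theorem mkQ_factor {p q : Submodule A A} (h : p ≤ q) :
    (ModuleCat.ofHom p.mkQ : ModuleCat.of A A ⟶ ModuleCat.of A (A ⧸ p)) ≫ ModuleCat.ofHom (Submodule.factor h) =
      ModuleCat.ofHom q.mkQ := by
  ext
  rfl

theorem mkQ_factor₂ {p q r : Submodule A A} (h : p ≤ q) (h' : q ≤ r) :
    (ModuleCat.ofHom p.mkQ : ModuleCat.of A A ⟶ ModuleCat.of A (A ⧸ p)) ≫ ModuleCat.ofHom (Submodule.factor h) ≫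
      ModuleCat.ofHom (Submodule.factor h') = ModuleCat.ofHom r.mkQ := by
  ext
  rfl

/-- The adic system of an ideal. -/
noncomputable abbrev sys (J : Ideal A) : ARSys.PS (ModuleCat.{u} A) := CohIII.adicSystem J (ModuleCat.of A A)

/-- The submodule of the `n`-th quotient. -/
abbrev lvl (J : Ideal A) (n : ℕ) : Submodule A A := J ^ (n + 1) • (⊤ : Submodule A A)

theorem lvl_le_iff {J : Ideal A} {n : ℕ} {x : A} : x ∈ lvl J n ↔ x ∈ J ^ (n + 1) := by
  simp [lvl, Ideal.smul_eq_mul]

theorem sys_succ (J : Ideal A) (n : ℕ) :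
    (sys J).map (homOfLE (Nat.le_add_right n 1)).op = ModuleCat.ofHom (Submodule.factor
      (Submodule.smul_mono_left (Ideal.pow_le_pow_right (Nat.le_succ (n + 1))) : lvl J (n + 1) ≤ lvl J n)) :=
  Functor.ofOpSequence_map_homOfLE_succ _ n

/-- The projection onto the adic system. -/
noncomputable def proj (J : Ideal A) : (Functor.const ℕᵒᵖ).obj (ModuleCat.of A A) ⟶ sys J :=
  NatTrans.ofOpSequence (fun n => ModuleCat.ofHom (lvl J n).mkQ) fun n => by
    rw [sys_succ]
    exact (Category.id_comp _).trans (mkQ_factor _).symm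

instance epi_proj (J : Ideal A) (k : ℕᵒᵖ) : Epi ((proj J).app k) :=
  (ModuleCat.epi_iff_surjective _).2 (Submodule.mkQ_surjective _)

theorem proj_tr (J : Ideal A) {n m : ℕ} (h : n ≤ m) :
    (proj J).app (op m) ≫ ARSys.tr (sys J) h = (proj J).app (op n) :=
  ProTri8.cone_tr (proj J) h

variable (f : A) (J : Ideal A)

/-- The ideal with one more generator. -/
abbrev sp : Ideal A := Ideal.span {f} ⊔ J

theorem pow_mem_sp (n : ℕ) : f ^ (n + 1) ∈ lvl (sp f J) n :=
  (lvl_le_iff (J := sp f J) (n := n) (x := f ^ (n + 1))).2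
    (Ideal.pow_mem_pow (I := sp f J) (x := f) (Ideal.mem_sup_left (Ideal.mem_span_singleton_self f)) (n + 1))

/-- The comparison of systems. -/
noncomputable def toSp : sys J ⟶ sys (sp f J) :=
  NatTrans.ofOpSequence (fun n => ModuleCat.ofHom (Submodule.factor
      (Submodule.smul_mono_left (Ideal.pow_right_mono le_sup_right (n + 1)) : lvl J n ≤ lvl (sp f J) n)))
    fun n => by
      rw [← cancel_epi ((proj J).app (op (n + 1))), sys_succ, sys_succ]
      exact (mkQ_factor₂ _ _).trans (mkQ_factor₂ _ _).symm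

theorem proj_toSp (n : ℕ) : (proj J).app (op n) ≫ (toSp f J).app (op n) = (proj (sp f J)).app (op n) := by
  ext
  rfl

/-- The comparison from the quotient by `f`. -/
noncomputable def θ : quotSys f (sys J) ⟶ sys (sp f J) :=
  cokernel.desc _ (toSp f J) (by
    refine NatTrans.ext (funext fun ⟨n⟩ => ?_)
    change ((f ^ (n + 1)) • 𝟙 ((sys J).obj (op n))) ≫ (toSp f J).app (op n) = 0
    rw [← cancel_epi ((proj J).app (op n)), Linear.smul_comp, Category.id_comp, Linear.comp_smul, proj_toSp,
      comp_zero]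
    ext
    change f ^ (n + 1) • (lvl (sp f J) n).mkQ (1 : A) = 0
    rw [← map_smul, Submodule.mkQ_apply, Submodule.Quotient.mk_eq_zero, smul_eq_mul, mul_one]
    exact pow_mem_sp f J n)

theorem isProIso_θ : DerCA.IsProIso (θ f J) := fun n => by
  let m := 2 * n + 1
  let π := cokernel.π (twistα f (sys J))
  let g : ModuleCat.of A A ⟶ (quotSys f (sys J)).obj (op n) := (proj J).app (op n) ≫ π.app (op n)
  have hg : ∀ x ∈ Ideal.span {f} ^ (n + 1) ⊔ J ^ (n + 1), g x = 0 := fun x hx => by
    obtain ⟨y, hy, z, hz, rfl⟩ := Submodule.mem_sup.1 hx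
    rw [Ideal.span_singleton_pow] at hy
    obtain ⟨a, rfl⟩ := Ideal.mem_span_singleton'.1 hy
    have h0 : ((f ^ (n + 1)) • 𝟙 ((sys J).obj (op n))) ≫ π.app (op n) = 0 :=
      congrArg (fun t => t.app (op n)) (cokernel.condition (twistα f (sys J)))
    have h1 : g z = 0 := by
      change π.app (op n) ((lvl J n).mkQ z) = 0
      rw [(Submodule.Quotient.mk_eq_zero _).2 (lvl_le_iff.2 hz) |> fun h => (show (lvl J n).mkQ z = 0 from h), map_zero]
    have h2 : g (a * f ^ (n + 1)) = 0 := by
      change π.app (op n) ((lvl J n).mkQ (a * f ^ (n + 1))) = 0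
      have := congrArg (fun t => t.hom ((lvl J n).mkQ a)) h0
      rw [show (lvl J n).mkQ (a * f ^ (n + 1)) = f ^ (n + 1) • (lvl J n).mkQ a by
        rw [← map_smul, smul_eq_mul, mul_comm]]
      exact this
    rw [map_add, h1, h2, add_zero]
  have hle : lvl (sp f J) m ≤ LinearMap.ker g.hom := fun x hx => hg x (by
    have h := lvl_le_iff.1 hx
    rw [show m + 1 = (n + 1) + (n + 1) by omega] at h
    exact Ideal.sup_pow_add_le_pow_sup_pow h)
  let b : (sys (sp f J)).obj (op m) ⟶ (quotSys f (sys J)).obj (op n) := ModuleCat.ofHom ((lvl (sp f J) m).liftQ g.hom hle)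
  have hb : (proj (sp f J)).app (op m) ≫ b = g := by
    ext
    rfl
  have hπ : π ≫ θ f J = toSp f J := cokernel.π_desc _ _ _
  have hπθ : ∀ k, π.app k ≫ (θ f J).app k = (toSp f J).app k := fun k => by
    rw [← NatTrans.comp_app, hπ]
  refine ⟨m, by omega, b, ?_, ?_⟩
  · haveI : Epi (π.app (op m)) := inferInstance
    rw [← cancel_epi (π.app (op m)), ← Category.assoc, hπθ, ← cancel_epi ((proj J).app (op m)), ← Category.assoc,
      proj_toSp, hb, ← ProTri8.tr_nat π, ← Category.assoc, proj_tr]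
  · rw [← cancel_epi ((proj (sp f J)).app (op m)), ← Category.assoc, hb, proj_tr, Category.assoc, hπθ, proj_toSp]

/-- The canonical map between the tensor products, in the derived category. -/
noncomputable abbrev qτ {K P : DRing.Cx A} (q : P ⟶ K) :
    tensorLeft P ⋙ DerivedCategory.Q ⟶ (tensorLeft K : DRing.Cx A ⥤ DRing.Cx A) ⋙ DerivedCategory.Q :=
  Functor.whiskerRight ((tensoringLeft (DRing.Cx A)).map q) DerivedCategory.Q

omit f J in
theorem torsStab [IsNoetherianRing A] (r : A) (L : DRing.Cx A) (a b : ℤ) (hL : DRing.VanishesOutside L a b)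
    (hfin : ∀ i, Module.Finite A (L.X i)) : TorsStab r L := by
  have h : ∀ i, ∃ c : ℕ, ∀ N : ℕ, ∀ x : L.X i, r ^ N • x = 0 → r ^ c • x = 0 := fun i => by
    haveI := hfin i
    let t : ℕ →o Submodule A (L.X i) :=
      ⟨fun N => LinearMap.ker (LinearMap.lsmul A (L.X i) (r ^ N)), fun M N h x hx => by
        simp only [LinearMap.mem_ker, LinearMap.lsmul_apply] at hx ⊢
        rw [← Nat.sub_add_cancel h, pow_add, mul_smul, hx, smul_zero]⟩
    obtain ⟨c, hc⟩ := monotone_stabilizes_iff_noetherian.mpr inferInstance t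
    refine ⟨c, fun N x hx => ?_⟩
    have hx' : x ∈ t (max N c) :=
      t.monotone (le_max_left N c) (show x ∈ t N from LinearMap.mem_ker.2 hx)
    rw [← hc (max N c) (le_max_right N c)] at hx'
    exact LinearMap.mem_ker.1 hx'
  choose c hc using h
  refine ⟨(Finset.Icc a b).sup c, fun W k N hk => HomologicalComplex.hom_ext _ _ fun i => ?_⟩
  by_cases hi : i < a ∨ b < i
  · exact (hL i hi).eq_of_tgt _ _
  · obtain ⟨h1, h2⟩ := not_or.1 hi
    ext x
    have h3 : r ^ N • (k.f i) x = 0 := congrArg (fun t : W ⟶ L => (t.f i) x) hk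
    have h4 := hc i N _ h3
    have h5 : c i ≤ (Finset.Icc a b).sup c := Finset.le_sup (Finset.mem_Icc.2 ⟨not_lt.1 h1, not_lt.1 h2⟩)
    change r ^ (Finset.Icc a b).sup c • (k.f i) x = 0
    rw [← Nat.sub_add_cancel h5, pow_add, mul_smul, h4, smul_zero]

omit f J in
theorem torsStab_tensor [IsNoetherianRing A] (r : A) (K : DRing.Cx A) (a b : ℤ) (hK : DRing.VanishesOutside K a b)
    (hKf : ∀ i : ℤ, Module.Finite A (K.X i)) (J : Ideal A) (n : ℕ) :
    TorsStab r (K ⊗ s0.obj ((sys J).obj (op n))) := by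
  haveI : PreservesColimitsOfShape WalkingSpan (tensorLeft K : DRing.Cx A ⥤ DRing.Cx A) :=
    preservesColimitsOfShape_tensorLeft K _
  haveI : Epi (s0.map ((proj J).app (op n))) := inferInstance
  haveI : Epi ((tensorLeft K : DRing.Cx A ⥤ DRing.Cx A).map (s0.map ((proj J).app (op n)))) := inferInstance
  let e : K ⟶ K ⊗ s0.obj ((sys J).obj (op n)) := (ρ_ K).inv ≫ K ◁ s0.map ((proj J).app (op n))
  haveI : Epi (K ◁ s0.map ((proj J).app (op n))) :=
    inferInstanceAs (Epi ((tensorLeft K : DRing.Cx A ⥤ DRing.Cx A).map (s0.map ((proj J).app (op n)))))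
  haveI : Epi e := epi_comp _ _
  have hs : ∀ i, Function.Surjective (e.f i) := fun i =>
    (ModuleCat.epi_iff_surjective _).1 ((HomologicalComplex.eval _ _ i).map_epi e)
  refine torsStab r _ a b (fun i hi => ?_) fun i =>
    haveI := hKf i
    Module.Finite.of_surjective (e.f i).hom (hs i)
  haveI : Epi (e.f i) := (HomologicalComplex.eval _ _ i).map_epi e
  exact IsZero.of_epi (e.f i) (hK i hi)

omit f J in
theorem isProIso_bot {K P : DRing.Cx A} (q : P ⟶ K) [QuasiIso q] :
    DerCA.IsProIso (Functor.whiskerLeft (sys (⊥ : Ideal A) ⋙ s0) (qτ q)) := by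
  haveI : IsIso (DerivedCategory.Q.map q) := inferInstance
  haveI : IsIso ((qτ q).app (𝟙_ (DRing.Cx A))) := by
    change IsIso (DerivedCategory.Q.map (q ▷ 𝟙_ (DRing.Cx A)))
    have h : q ▷ 𝟙_ (DRing.Cx A) = (ρ_ P).hom ≫ q ≫ (ρ_ K).inv := by
      rw [← Category.assoc, ← rightUnitor_naturality, Category.assoc, Iso.hom_inv_id, Category.comp_id]
    rw [h, Functor.map_comp, Functor.map_comp]
    infer_instance
  haveI : ∀ k, IsIso ((Functor.whiskerLeft (sys (⊥ : Ideal A) ⋙ s0) (qτ q)).app k) := fun k => by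
    haveI : IsIso ((proj (⊥ : Ideal A)).app k) := by
      rw [ConcreteCategory.isIso_iff_bijective]
      refine ⟨fun x y h => ?_, Submodule.mkQ_surjective _⟩
      have h' := lvl_le_iff.1 ((Submodule.Quotient.eq (lvl (⊥ : Ideal A) k.unop)).1 h)
      rw [← Submodule.zero_eq_bot, zero_pow (by omega), Submodule.zero_eq_bot, Submodule.mem_bot, sub_eq_zero] at h'
      exact h'
    exact (NatTrans.isIso_app_iff_of_iso (qτ q) (s0.mapIso (asIso ((proj (⊥ : Ideal A)).app k)))).1
      ‹IsIso ((qτ q).app (𝟙_ (DRing.Cx A)))›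
  exact isProIso_of_isIso _

variable [DTen.HasLTen A] [DTen.KFlatComputes A]

theorem step [IsNoetherianRing A] (K : DRing.Cx A) (a b : ℤ) (hK : DRing.VanishesOutside K a b)
    (hKf : ∀ i : ℤ, Module.Finite A (K.X i)) {P : DRing.Cx A} (q : P ⟶ K) (hP : DRing.IsKFlat A P)
    (hτ : DerCA.IsProIso (Functor.whiskerLeft (sys J ⋙ s0) (qτ q))) :
    DerCA.IsProIso (Functor.whiskerLeft (sys (sp f J) ⋙ s0) (qτ q)) := by
  let B := sys J
  have h1 := step_aux f B q hτ (torsStab_tensor f K a b hK hKf J)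
  -- the unit complex
  let U := 𝟙_ (DRing.Cx A)
  have hU0 : DRing.VanishesOutside U 0 0 := fun i hi =>
    HomologicalComplex.isZero_single_obj_X (ComplexShape.up ℤ) 0 _ i (by omega)
  have hUf : ∀ i, Module.Finite A (U.X i) := fun i => by
    by_cases hi : i = 0
    · subst hi
      exact Module.Finite.equiv
        (HomologicalComplex.singleObjXSelf (ComplexShape.up ℤ) 0 (ModuleCat.of A A)).toLinearEquiv.symm
    · haveI : Subsingleton (U.X i) := ModuleCat.subsingleton_of_isZero (hU0 i (by omega))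
      infer_instance
  haveI : ∀ k, IsIso ((Functor.whiskerLeft (B ⋙ s0) (qτ (𝟙 U))).app k) := fun k => by
    change IsIso (DerivedCategory.Q.map (((tensoringLeft (DRing.Cx A)).map (𝟙 U)).app _))
    rw [CategoryTheory.Functor.map_id]
    infer_instance
  have hid : DerCA.IsProIso (Functor.whiskerLeft (B ⋙ s0) (qτ (𝟙 U))) := isProIso_of_isIso _
  have h2 := step_aux f B (𝟙 U) hid (torsStab_tensor f U 0 0 hU0 hUf J)
  rw [CategoryTheory.Functor.map_id, show Functor.whiskerLeft (quotSys f B ⋙ s0)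
      (𝟙 ((tensoringLeft (DRing.Cx A)).obj U)) = 𝟙 _ from rfl] at h2
  erw [Category.comp_id] at h2
  let c := Functor.whiskerRight (cylToQuot f B) DerivedCategory.Q
  have h3 : DerCA.IsProIso c := by
    let lam : (tensorLeft U : DRing.Cx A ⥤ DRing.Cx A) ≅ 𝟭 _ := leftUnitorNatIso _
    refine ProTri8.isProIso_of_arrowIso
      (Functor.isoWhiskerRight (Functor.isoWhiskerLeft (cyl f B).X₃ lam) DerivedCategory.Q)
      (Functor.isoWhiskerRight (Functor.isoWhiskerLeft (quotSys f B ⋙ s0) lam) DerivedCategory.Q) ?_ h2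
    ext k
    simp only [NatTrans.comp_app]
    exact (DerivedCategory.Q.map_comp _ _).symm.trans
      ((congrArg DerivedCategory.Q.map (lam.hom.naturality ((cylToQuot f B).app k)).symm).trans
        (DerivedCategory.Q.map_comp _ _))
  -- push through the derived tensor product with `P`
  let F := (DTen.LTen A).obj (DerivedCategory.Q.obj P)
  haveI : ∀ L, IsIso ((DTen.εLeft A P).app L) := fun L => DTen.KFlatComputes.isIso_counit P L (Or.inl hP)
  let e : DerivedCategory.Q ⋙ F ≅ tensorLeft P ⋙ DerivedCategory.Q := NatIso.ofComponents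
    (fun L => asIso ((DTen.εLeft A P).app L)) fun g => (DTen.εLeft A P).naturality g
  have h4 : DerCA.IsProIso (Functor.whiskerRight (Functor.whiskerRight (cylToQuot f B) (tensorLeft P)) DerivedCategory.Q) := by
    refine ProTri8.isProIso_of_arrowIso (Functor.isoWhiskerLeft (cyl f B).X₃ e)
      (Functor.isoWhiskerLeft (quotSys f B ⋙ s0) e) ?_ (ProTri8.isProIso_map F h3)
    ext k
    exact (e.hom.naturality ((cylToQuot f B).app k)).symm
  rw [Functor.whiskerRight_comp] at h1
  have h5 : DerCA.IsProIso (Functor.whiskerLeft (quotSys f B ⋙ s0) (qτ q)) := isProIso_of_comp_left h4 h1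
  -- pass from the quotient system to the adic system
  have hθ := ProTri8.isProIso_map (s0 (A := A)) (isProIso_θ f J)
  have h6 : DerCA.IsProIso (Functor.whiskerRight (Functor.whiskerRight (θ f J) s0) (tensorLeft P ⋙ DerivedCategory.Q)) :=
    ProTri8.isProIso_map _ hθ
  have h7 : DerCA.IsProIso (Functor.whiskerRight (Functor.whiskerRight (θ f J) s0) (tensorLeft K ⋙ DerivedCategory.Q)) :=
    ProTri8.isProIso_map _ hθ
  refine isProIso_of_comp_left h6 ?_
  have hnat : Functor.whiskerRight (Functor.whiskerRight (θ f J) s0) (tensorLeft P ⋙ DerivedCategory.Q) ≫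
      Functor.whiskerLeft (sys (sp f J) ⋙ s0) (qτ q) =
      Functor.whiskerLeft (quotSys f B ⋙ s0) (qτ q) ≫
        Functor.whiskerRight (Functor.whiskerRight (θ f J) s0) (tensorLeft K ⋙ DerivedCategory.Q) := by
    ext k
    exact (qτ q).naturality (s0.map ((θ f J).app k))
  rw [hnat]
  exact isProIso_comp h5 h7

omit f J in
/-- The tensor products with a quasi-isomorphism from a K-flat complex. -/
theorem isProIso_qτ [IsNoetherianRing A] (I : Ideal A) (K : DRing.Cx A) (a b : ℤ)
    (hK : DRing.VanishesOutside K a b) (hKf : ∀ i : ℤ, Module.Finite A (K.X i)) {P : DRing.Cx A} (q : P ⟶ K)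
    [QuasiIso q] (hP : DRing.IsKFlat A P) :
    DerCA.IsProIso (Functor.whiskerLeft (sys I ⋙ s0) (qτ q)) := by
  have key : ∀ l : List A, DerCA.IsProIso (Functor.whiskerLeft (sys (Ideal.span {x | x ∈ l}) ⋙ s0) (qτ q)) := by
    intro l
    induction l with
    | nil =>
      rw [show Ideal.span {x | x ∈ ([] : List A)} = ⊥ by simp]
      exact isProIso_bot q
    | cons r l ih =>
      rw [show Ideal.span {x | x ∈ r :: l} = sp r (Ideal.span {x | x ∈ l}) by
        rw [sp, ← Ideal.span_union]
        congr 1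
        ext x
        simp]
      exact step r _ K a b hK hKf q hP ih
  obtain ⟨s, hs⟩ := (IsNoetherian.noetherian I : I.FG)
  have hI := key s.toList
  rwa [show Ideal.span {x | x ∈ s.toList} = I by simp only [Finset.mem_toList]; exact hs] at hI

omit f J in
/-- The derived tensor product with the adic system. -/
theorem isProIso_εLeft [IsNoetherianRing A] (I : Ideal A) (K : DRing.Cx A) (a b : ℤ)
    (hK : DRing.VanishesOutside K a b) (hKf : ∀ i : ℤ, Module.Finite A (K.X i)) :
    DerCA.IsProIso (Functor.whiskerLeft (sys I ⋙ s0) (DTen.εLeft A K)) := by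
  let P := (KFlat.DT.res A).obj K
  let q : P ⟶ K := (KFlat.DT.aug A).app K
  haveI : QuasiIso q := KFlat.DT.qis_aug K
  have hP : DRing.IsKFlat A P := KFlat.DT.isKFlat_res K
  have hI := isProIso_qτ I K a b hK hKf q hP
  haveI : IsIso (DerivedCategory.Q.map q) := inferInstance
  let α : (sys I ⋙ s0) ⋙ DerivedCategory.Q ⋙ (DTen.LTen A).obj (DerivedCategory.Q.obj P) ⟶
      (sys I ⋙ s0) ⋙ DerivedCategory.Q ⋙ (DTen.LTen A).obj (DerivedCategory.Q.obj K) :=
    Functor.whiskerLeft (sys I ⋙ s0) (Functor.whiskerLeft DerivedCategory.Q ((DTen.LTen A).map (DerivedCategory.Q.map q)))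
  haveI : ∀ k, IsIso (α.app k) := fun k => by
    simp only [α, Functor.whiskerLeft_app]
    infer_instance
  haveI : ∀ L, IsIso ((DTen.εLeft A P).app L) := fun L => DTen.KFlatComputes.isIso_counit P L (Or.inl hP)
  haveI : ∀ k, IsIso ((Functor.whiskerLeft (sys I ⋙ s0) (DTen.εLeft A P)).app k) := fun k => by
    rw [Functor.whiskerLeft_app]
    infer_instance
  refine isProIso_of_comp_left (isProIso_of_isIso α) ?_
  have hnat : α ≫ Functor.whiskerLeft (sys I ⋙ s0) (DTen.εLeft A K) =
      Functor.whiskerLeft (sys I ⋙ s0) (DTen.εLeft A P) ≫ Functor.whiskerLeft (sys I ⋙ s0) (qτ q) := by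
    ext k
    exact (DTen.ε A).naturality (Prod.mkHom q (𝟙 ((sys I ⋙ s0).obj k))) |>.trans (by simp [qτ]; rfl) |> fun h => by
      simpa [α, DTen.εLeft] using h
  rw [hnat]
  exact isProIso_comp (isProIso_of_isIso _) hI

end Groth.Agent.DTenPro9
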